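import Cfsg.Agent.H39.Fi22C.Basic
import Cfsg.Agent.H2.U6E.Setup
import Cfsg.Prelude.Def_TwoFusion

/-!
The hypotheses of S3232 give the data `Setup3`; they are symmetric in `a` and `a * z`.
-/

set_option autoImplicit false

namespace H20.Fi22C

open H39.Fi22C
open scoped commutatorElement

variable {G : Type*} [Group G] {F : Type*} [Field F] [Fintype F] {z a : G} {J H₀ : Subgroup G}
  {π : ↥H₀ →* Cfsg.PSp 2 F}

/-- The data are symmetric in the two involutions `a`, `a * z`. -/
theorem setup3_mul (S : Setup3 z a J H₀ π) : Setup3 z (a * z) J H₀ π := by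
  have hz : ∀ g ∈ Subgroup.centralizer ({z} : Set G), Commute g z := fun g hg =>
    Subgroup.mem_centralizer_singleton_iff.1 hg
  have haz : Commute a z := S.a_H₀ z (S.J_le S.z_mem)
  have he : a * z * z = a := by rw [mul_assoc, S.sq, mul_one]
  refine { S with a_sq := ?_, a_out := ?_, a_mem := mul_mem S.a_mem S.z_mem, a_H₀ := ?_,
                  conj_a := ?_, center := ?_ }
  · rw [show a * z * (a * z) = a * (z * a) * z by group, ← haz.eq]
    rw [show a * (a * z) * z = (a * a) * (z * z) by group, S.a_sq, S.sq, one_mul]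
  · refine ⟨fun e => S.a_out.2 ?_, fun e => S.a_out.1 (mul_eq_right.1 e)⟩
    rw [eq_inv_of_mul_eq_one_left e, inv_eq_of_mul_eq_one_right S.sq]
  · exact fun g hg => (S.a_H₀ g hg).mul_left (hz g (S.le_cent hg)).symm
  · intro g hg
    have hgz : g * z * g⁻¹ = z := mul_inv_eq_iff_eq_mul.2 (hz g hg).eq
    rw [show g * (a * z) * g⁻¹ = g * a * g⁻¹ * (g * z * g⁻¹) by group, hgz, he]
    rcases S.conj_a g hg with e | e <;> rw [e]
    · exact Or.inl rfl
    · exact Or.inr he
  · intro p hp hc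
    rcases S.center p hp hc with e | e | e | e
    · exact Or.inl e
    · exact Or.inr (Or.inl e)
    · exact Or.inr (Or.inr (Or.inr (by rw [he]; exact e)))
    · exact Or.inr (Or.inr (Or.inl e))

/-- The hypotheses of S3232 give the data. -/
theorem exists_setup3 {G : Type*} [Group G] [Finite G] (z : G) (hz : orderOf z = 2)
    {F : Type*} [Field F] [Fintype F] (hF : Fintype.card F = 3)
    (A E : Subgroup ↥(Subgroup.centralizer ({z} : Set G)))
    (hAE : Cfsg.IsInternalDirectProduct A E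
      (Cfsg.pCore 2 ↥(Subgroup.centralizer ({z} : Set G))))
    (hA : Nat.card ↥A = 2) (hE : Cfsg.IsExtraspecial 2 ↥E) (hEc : Nat.card ↥E = 2 ^ 9)
    (zc : ↥(Subgroup.centralizer ({z} : Set G))) (hzc : (zc : G) = z)
    (hJ' : ⁅(Cfsg.pCore 2 ↥(Subgroup.centralizer ({z} : Set G))),
      (Cfsg.pCore 2 ↥(Subgroup.centralizer ({z} : Set G)))⁆ = Subgroup.zpowers zc)
    (hCJ : Subgroup.centralizer ((Cfsg.pCore 2 ↥(Subgroup.centralizer ({z} : Set G))) :
      Set ↥(Subgroup.centralizer ({z} : Set G))) ≤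
        Cfsg.pCore 2 ↥(Subgroup.centralizer ({z} : Set G)))
    [hJn : (Cfsg.pCore 2 ↥(Subgroup.centralizer ({z} : Set G))).Normal]
    (e : (↥(Subgroup.centralizer ({z} : Set G)) ⧸
      Cfsg.pCore 2 ↥(Subgroup.centralizer ({z} : Set G))) ≃* MulAut (Cfsg.PSp 2 F)) :
    ∃ (a : G) (J H₀ : Subgroup G) (π : ↥H₀ →* Cfsg.PSp 2 F), Setup3 z a J H₀ π := by
  classical
  have : Fact (Nat.Prime 2) := ⟨Nat.prime_two⟩
  have : Fact (Nat.Prime 3) := ⟨Nat.prime_three⟩
  have hsimple : IsSimpleGroup (Cfsg.PSp 2 F) :=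
    H48.isSimpleGroup_psp (Or.inr (Or.inl ⟨by simp, by omega⟩))
  have hcardP := H2.U6E.card_psp_two hF
  have hcardA : Nat.card (MulAut (Cfsg.PSp 2 F)) = 51840 := by
    rw [Cfsg.Agent.S0814.result 3 1 le_rfl (by rw [hF, pow_one]) 2 le_rfl (fun _ => by norm_num),
      hcardP]
    norm_num
  have hzz : z * z = 1 := by rw [← sq, ← hz, pow_orderOf_eq_one]
  have hz1 : z ≠ 1 := fun h => by rw [h, orderOf_one] at hz; omega
  obtain ⟨hAP, hEP, hcAE, hint, hsup⟩ := hAE
  -- the element `z` is the centre of `E`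
  obtain ⟨w, hw, hwc, hcomm, hsqE⟩ := H30.center_data hE
  have hw1 : (w : ↥(Subgroup.centralizer ({z} : Set G))) ≠ 1 := fun h => by
    have h' : w = 1 := Subtype.ext h
    rw [h', orderOf_one] at hw; omega
  replace hcAE : ∀ a ∈ A, ∀ b ∈ E, Commute a b := hcAE
  -- the generator of `A`
  obtain ⟨ac, hac⟩ : ∃ ac : ↥(Subgroup.centralizer ({z} : Set G)), ac ∈ A ∧ ac ≠ 1 := by
    have : Nontrivial A := Finite.one_lt_card_iff_nontrivial.1 (by omega)
    obtain ⟨x, hx⟩ := exists_ne (1 : A)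
    exact ⟨x, x.2, fun h => hx (Subtype.ext h)⟩
  have hAcases : ∀ x ∈ A, x = 1 ∨ x = ac := by
    intro x hx
    by_contra! hne
    have hsub : ({1, x, ac} : Finset ↥(Subgroup.centralizer ({z} : Set G))) ⊆ (Set.toFinite (A : Set ↥(Subgroup.centralizer ({z} : Set G)))).toFinset := by
      intro y hy
      simp only [Finset.mem_insert, Finset.mem_singleton] at hy
      rw [Set.Finite.mem_toFinset]
      rcases hy with rfl | rfl | rfl
      exacts [one_mem _, hx, hac.1]
    have h3 := Finset.card_le_card hsub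
    rw [← Set.ncard_eq_toFinset_card, ← Nat.card_coe_set_eq] at h3
    have h33 : ({1, x, ac} : Finset ↥(Subgroup.centralizer ({z} : Set G))).card = 3 := by
      rw [Finset.card_insert_of_notMem, Finset.card_insert_of_notMem, Finset.card_singleton]
      · simpa using hne.2
      · simp [hne.1.symm, hac.2.symm]
    change _ ≤ Nat.card ↥A at h3
    omega
  have hac2 : ac * ac = 1 := by
    rcases hAcases _ (mul_mem hac.1 hac.1) with h | h
    · exact h
    · exact absurd (mul_eq_left.1 h) hac.2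
  have hacP : ∀ x ∈ (Cfsg.pCore 2 ↥(Subgroup.centralizer ({z} : Set G))), Commute ac x := by
    intro x hx
    have hle : A ⊔ E ≤ Subgroup.centralizer ({ac} : Set ↥(Subgroup.centralizer ({z} : Set G))) := sup_le
      (fun y hy => Subgroup.mem_centralizer_singleton_iff.2 (by
        rcases hAcases y hy with rfl | rfl <;> simp))
      (fun y hy => Subgroup.mem_centralizer_singleton_iff.2 (hcAE ac hac.1 y hy).symm)
    exact (Subgroup.mem_centralizer_singleton_iff.1 (hle (hsup.symm ▸ hx))).symm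
  have hsplit : ∀ x ∈ (Cfsg.pCore 2 ↥(Subgroup.centralizer ({z} : Set G))), ∃ y ∈ E, x = y ∨ x = ac * y := by
    intro x hx
    rw [← hsup] at hx
    refine Subgroup.closure_induction (p := fun x _ => ∃ y ∈ E, x = y ∨ x = ac * y) ?_ ?_ ?_ ?_
      (by rwa [Subgroup.sup_eq_closure] at hx)
    · rintro x (hx | hx)
      · rcases hAcases x hx with rfl | rfl
        · exact ⟨1, one_mem _, Or.inl rfl⟩
        · exact ⟨1, one_mem _, Or.inr (mul_one _).symm⟩
      · exact ⟨x, hx, Or.inl rfl⟩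
    · exact ⟨1, one_mem _, Or.inl rfl⟩
    · rintro x y _ _ ⟨u, hu, hx⟩ ⟨v, hv, hy⟩
      refine ⟨u * v, mul_mem hu hv, ?_⟩
      have h : Commute ac u := hcAE ac hac.1 u hu
      rcases hx with rfl | rfl <;> rcases hy with rfl | rfl
      · exact Or.inl rfl
      · exact Or.inr (by rw [← mul_assoc, ← h.eq, mul_assoc])
      · exact Or.inr (mul_assoc _ _ _)
      · refine Or.inl ?_
        rw [show ac * u * (ac * v) = ac * (u * ac) * v by group, ← h.eq,
          show ac * (ac * u) * v = (ac * ac) * (u * v) by group, hac2, one_mul]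
    · rintro x _ ⟨u, hu, hx⟩
      refine ⟨u⁻¹, inv_mem hu, ?_⟩
      rcases hx with rfl | rfl
      · exact Or.inl rfl
      · refine Or.inr ?_
        rw [mul_inv_rev, inv_eq_of_mul_eq_one_right hac2]
        exact ((hcAE ac hac.1 u hu : Commute ac u).inv_right).eq.symm
  have htwo : ∀ x : E, x ∈ Subgroup.zpowers w → (x : ↥(Subgroup.centralizer ({z} : Set G))) = 1 ∨ (x : ↥(Subgroup.centralizer ({z} : Set G))) = w := fun x hx =>
    (H30.zpowers_two_cases hw hx).imp (fun h => by rw [h]; rfl) fun h => by rw [h]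
  have hwz : (w : ↥(Subgroup.centralizer ({z} : Set G))) = zc := by
    have hle : ⁅(Cfsg.pCore 2 ↥(Subgroup.centralizer ({z} : Set G))), (Cfsg.pCore 2 ↥(Subgroup.centralizer ({z} : Set G)))⁆ ≤ (Subgroup.zpowers w).map E.subtype := by
      rw [Subgroup.commutator_le]
      intro x hx y hy
      obtain ⟨u, hu, hxu⟩ := hsplit x hx
      obtain ⟨v, hv, hyv⟩ := hsplit y hy
      have hm := hcomm ⟨u, hu⟩ ⟨v, hv⟩
      have hkey : ⁅x, y⁆ = ⁅u, v⁆ := by
        have hau : Commute ac u := hcAE ac hac.1 u hu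
        have hav : Commute ac v := hcAE ac hac.1 v hv
        have h1 : ∀ s, Commute ac s → ∀ r, r = s ∨ r = ac * s → ∀ q, Commute ac q →
            ⁅r, q⁆ = ⁅s, q⁆ := by
          intro s hs r hr q hq
          rcases hr with rfl | rfl
          · rfl
          · rw [commutatorElement_def, commutatorElement_def, mul_inv_rev]
            have h2 : Commute ac (s * q * s⁻¹) := (hs.mul_right hq).mul_right hs.inv_right
            calc ac * s * q * (s⁻¹ * ac⁻¹) * q⁻¹ = ac * (s * q * s⁻¹) * ac⁻¹ * q⁻¹ := by group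
              _ = s * q * s⁻¹ * q⁻¹ := by rw [h2.eq, mul_inv_cancel_right]
        have hcy : Commute ac y := by
          rcases hyv with rfl | rfl
          exacts [hav, (Commute.refl ac).mul_right hav]
        rw [h1 u hau x hxu y hcy, ← commutatorElement_inv, h1 v hav y hyv u hau, commutatorElement_inv]
      exact ⟨⁅(⟨u, hu⟩ : E), ⟨v, hv⟩⁆, hm, hkey.symm ▸ map_commutatorElement E.subtype _ _⟩
    rw [hJ'] at hle
    obtain ⟨x, hx, hxe⟩ := hle (Subgroup.mem_zpowers zc)
    rcases htwo x hx with h | h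
    · exact absurd (by rw [← hzc, ← hxe]; exact congrArg Subtype.val h) hz1
    · exact h.symm.trans hxe
  have hwG : ((w : ↥(Subgroup.centralizer ({z} : Set G))) : G) = z := by rw [hwz, hzc]
  have hzP : (w : ↥(Subgroup.centralizer ({z} : Set G))) ∈ (Cfsg.pCore 2 ↥(Subgroup.centralizer ({z} : Set G))) := hEP w.2
  have haz : ac ≠ w := fun h => hw1 (by
    have : (w : ↥(Subgroup.centralizer ({z} : Set G))) ∈ A ⊓ E := ⟨h ▸ hac.1, w.2⟩
    rwa [hint, Subgroup.mem_bot] at this)
  have hcomC : ∀ g : (Subgroup.centralizer ({z} : Set G)), Commute (w : ↥(Subgroup.centralizer ({z} : Set G))) g := fun g => Subtype.ext (by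
    show ((w : ↥(Subgroup.centralizer ({z} : Set G))) : G) * g = g * (w : ↥(Subgroup.centralizer ({z} : Set G)))
    rw [hwG]
    exact (Subgroup.mem_centralizer_singleton_iff.1 g.2).symm)
  have hcases : ∀ x ∈ (Cfsg.pCore 2 ↥(Subgroup.centralizer ({z} : Set G))), (∀ y ∈ (Cfsg.pCore 2 ↥(Subgroup.centralizer ({z} : Set G))), Commute x y) →
      x = 1 ∨ x = w ∨ x = ac ∨ x = ac * w := by
    intro x hx hc
    obtain ⟨u, hu, hxu⟩ := hsplit x hx
    have hucent : ∀ v ∈ E, Commute u v := by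
      intro v hv
      rcases hxu with rfl | rfl
      · exact hc v (hEP hv)
      · have := ((hacP v (hEP hv)).inv_left).mul_left (hc v (hEP hv))
        rwa [inv_mul_cancel_left] at this
    have hm : (⟨u, hu⟩ : E) ∈ Subgroup.center E :=
      Subgroup.mem_center_iff.2 fun g => Subtype.ext (hucent g g.2).eq.symm
    rw [hwc] at hm
    rcases htwo _ hm with h | h <;> rcases hxu with rfl | rfl
    · exact Or.inl h
    · refine Or.inr (Or.inr (Or.inl ?_)); rw [show u = 1 from h, mul_one]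
    · exact Or.inr (Or.inl h)
    · refine Or.inr (Or.inr (Or.inr ?_)); rw [show u = (w : ↥(Subgroup.centralizer ({z} : Set G))) from h]
  have hacn : ∀ g : (Subgroup.centralizer ({z} : Set G)), g * ac * g⁻¹ = ac ∨ g * ac * g⁻¹ = ac * w := by
    intro g
    have hm : g * ac * g⁻¹ ∈ (Cfsg.pCore 2 ↥(Subgroup.centralizer ({z} : Set G))) := hJn.conj_mem ac (hAP hac.1) g
    have hc : ∀ y ∈ (Cfsg.pCore 2 ↥(Subgroup.centralizer ({z} : Set G))), Commute (g * ac * g⁻¹) y := by
      intro y hy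
      have h := (hacP _ (hJn.conj_mem y hy g⁻¹)).map (MulAut.conj g).toMonoidHom
      simpa [mul_assoc] using h
    rcases hcases _ hm hc with h | h | h | h
    · exact absurd (by simpa using h) hac.2
    · refine absurd ?_ haz
      have h' : g⁻¹ * (g * ac * g⁻¹) * g = g⁻¹ * (w : ↥(Subgroup.centralizer ({z} : Set G))) * g := by rw [h]
      rw [show g⁻¹ * (g * ac * g⁻¹) * g = ac by group, ((hcomC g⁻¹).symm).eq,
        inv_mul_cancel_right] at h'
      exact h'
    · exact Or.inl h
    · exact Or.inr h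
  -- the inner half
  let f : (Subgroup.centralizer ({z} : Set G)) →* MulAut (Cfsg.PSp 2 F) := e.toMonoidHom.comp (QuotientGroup.mk' (Cfsg.pCore 2 ↥(Subgroup.centralizer ({z} : Set G))))
  have hf : Function.Surjective f := e.surjective.comp (QuotientGroup.mk'_surjective (Cfsg.pCore 2 ↥(Subgroup.centralizer ({z} : Set G))))
  have hfk : ∀ g, f g = 1 ↔ g ∈ (Cfsg.pCore 2 ↥(Subgroup.centralizer ({z} : Set G))) := fun g => by
    show e (QuotientGroup.mk' (Cfsg.pCore 2 ↥(Subgroup.centralizer ({z} : Set G))) g) = 1 ↔ _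
    rw [e.map_eq_one_iff, QuotientGroup.mk'_apply, QuotientGroup.eq_one_iff]
  have hinj : Function.Injective (MulAut.conj : Cfsg.PSp 2 F →* MulAut (Cfsg.PSp 2 F)) := by
    rw [injective_iff_map_eq_one]
    intro x hx
    have hx' : x ∈ Subgroup.center (Cfsg.PSp 2 F) := Subgroup.mem_center_iff.2 fun y => by
      have h := DFunLike.congr_fun hx y
      rw [MulAut.conj_apply, MulAut.one_apply, mul_inv_eq_iff_eq_mul] at h
      exact h.symm
    rwa [H48.center_psp_eq_bot le_rfl (fun _ => by omega), Subgroup.mem_bot] at hx'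
  let I : Subgroup (MulAut (Cfsg.PSp 2 F)) :=
    (MulAut.conj : Cfsg.PSp 2 F →* MulAut (Cfsg.PSp 2 F)).range
  have hIcard : Nat.card I = 25920 := by
    rw [← hcardP]
    exact (Nat.card_congr (MonoidHom.ofInjective hinj).toEquiv).symm
  have hIidx : I.index = 2 := by
    have := Subgroup.card_mul_index I
    rw [hIcard, hcardA] at this
    omega
  let K : Subgroup (Subgroup.centralizer ({z} : Set G)) := I.comap f
  have hKidx : K.index = 2 := by rw [Subgroup.index_comap_of_surjective _ hf, hIidx]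
  have hKn : K.Normal := Subgroup.normal_of_index_eq_two hKidx
  have hPcard : Nat.card (Cfsg.pCore 2 ↥(Subgroup.centralizer ({z} : Set G))) = 2 ^ 10 := by
    have h1 : Nat.card (Cfsg.pCore 2 ↥(Subgroup.centralizer ({z} : Set G))) = Nat.card (Bool × E) := by
      symm
      refine Nat.card_congr (Equiv.ofBijective
        (fun p => (⟨(if p.1 then ac else 1) * p.2, mul_mem (by split <;> simp [hAP hac.1])
          (hEP p.2.2)⟩ : (Cfsg.pCore 2 ↥(Subgroup.centralizer ({z} : Set G))))) ⟨?_, ?_⟩)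
      · rintro ⟨b, u⟩ ⟨c, v⟩ h
        have h' := congrArg Subtype.val h
        simp only at h'
        have key : ∀ s t : E, (ac : ↥(Subgroup.centralizer ({z} : Set G))) * (s : ↥(Subgroup.centralizer ({z} : Set G))) = t → False := fun s t hst => hac.2 (by
          have : ac ∈ A ⊓ E := ⟨hac.1, by
            rw [eq_mul_inv_of_mul_eq hst]; exact E.mul_mem t.2 (E.inv_mem s.2)⟩
          rwa [hint, Subgroup.mem_bot] at this)
        cases b <;> cases c <;> simp at h'
        · rw [h']
        · exact (key v u h'.symm).elim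
        · exact (key u v h').elim
        · rw [h']
      · rintro ⟨x, hx⟩
        obtain ⟨u, hu, h | h⟩ := hsplit x hx
        · exact ⟨(false, ⟨u, hu⟩), Subtype.ext (by simp [h])⟩
        · exact ⟨(true, ⟨u, hu⟩), Subtype.ext (by simp [h])⟩
    rw [h1, Nat.card_prod, hEc, Nat.card_eq_fintype_card, Fintype.card_bool]
    norm_num
  have hcardC : Nat.card (Subgroup.centralizer ({z} : Set G)) = 2 ^ 11 * 25920 := by
    rw [Subgroup.card_eq_card_quotient_mul_card_subgroup (Cfsg.pCore 2 ↥(Subgroup.centralizer ({z} : Set G))), Nat.card_congr e.toEquiv, hcardA,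
      hPcard]
    norm_num
  have hPK : (Cfsg.pCore 2 ↥(Subgroup.centralizer ({z} : Set G))) ≤ K := fun x hx => by
    show f x ∈ I
    rw [(hfk x).2 hx]
    exact one_mem _
  have hmem : ∀ g, g ∈ K.map (Subgroup.centralizer ({z} : Set G)).subtype → ∃ hg : g ∈ (Subgroup.centralizer ({z} : Set G)), (⟨g, hg⟩ : (Subgroup.centralizer ({z} : Set G))) ∈ K := by
    rintro _ ⟨x, hx, rfl⟩
    exact ⟨x.2, hx⟩
  have hcan : ∀ g : (Subgroup.centralizer ({z} : Set G)), g ∈ K → (g : G) ∈ K.map (Subgroup.centralizer ({z} : Set G)).subtype := fun g hg => ⟨g, hg, rfl⟩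
  let g₀ : ↥(K.map (Subgroup.centralizer ({z} : Set G)).subtype) →* I :=
    { toFun := fun g => ⟨f ⟨g, (hmem g g.2).1⟩, (hmem g g.2).2⟩
      map_one' := Subtype.ext (by exact map_one f)
      map_mul' := fun a b => Subtype.ext (by
        exact map_mul f ⟨a, (hmem a a.2).1⟩ ⟨b, (hmem b b.2).1⟩) }
  let π : ↥(K.map (Subgroup.centralizer ({z} : Set G)).subtype) →* Cfsg.PSp 2 F :=
    (MonoidHom.ofInjective hinj).symm.toMonoidHom.comp g₀
  have hπs : Function.Surjective π := fun p => by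
    obtain ⟨c, hc⟩ := hf (MulAut.conj p)
    have hck : c ∈ K := by
      show f c ∈ I
      rw [hc]; exact ⟨p, rfl⟩
    refine ⟨⟨c, hcan c hck⟩, ?_⟩
    show (MonoidHom.ofInjective hinj).symm (g₀ _) = p
    rw [MulEquiv.symm_apply_eq]
    exact Subtype.ext hc
  have hπk : ∀ g : ↥(K.map (Subgroup.centralizer ({z} : Set G)).subtype), π g = 1 ↔ (g : G) ∈ (Cfsg.pCore 2 ↥(Subgroup.centralizer ({z} : Set G))).map (Subgroup.centralizer ({z} : Set G)).subtype := fun g => by
    show (MonoidHom.ofInjective hinj).symm (g₀ g) = 1 ↔ _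
    rw [MulEquiv.map_eq_one_iff]
    constructor
    · intro h
      exact ⟨⟨g, (hmem g g.2).1⟩, (hfk _).1 (congrArg Subtype.val h), rfl⟩
    · rintro ⟨x, hx, he⟩
      refine Subtype.ext ?_
      show f ⟨g, _⟩ = 1
      rw [hfk]
      have : x = ⟨(g : G), (hmem g g.2).1⟩ := Subtype.ext he
      exact this ▸ hx
  -- the inner half fixes `a`
  have hfix : ∀ g ∈ K, Commute ac g := by
    let T : Subgroup ↥(K.map (Subgroup.centralizer ({z} : Set G)).subtype) :=
      (Subgroup.centralizer ({(ac : G)} : Set G)).subgroupOf (K.map (Subgroup.centralizer ({z} : Set G)).subtype)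
    have hswap : ∀ g h : (Subgroup.centralizer ({z} : Set G)), g * ac * g⁻¹ ≠ ac → h * ac * h⁻¹ ≠ ac →
        g * h * ac * (g * h)⁻¹ = ac := by
      intro g h hg hh
      rw [show g * h * ac * (g * h)⁻¹ = g * (h * ac * h⁻¹) * g⁻¹ by group,
        (hacn h).resolve_left hh, show g * (ac * (w : ↥(Subgroup.centralizer ({z} : Set G)))) * g⁻¹ = g * ac * ((w : ↥(Subgroup.centralizer ({z} : Set G))) * g⁻¹) by group,
        (hcomC g⁻¹).eq, show g * ac * (g⁻¹ * (w : ↥(Subgroup.centralizer ({z} : Set G)))) = g * ac * g⁻¹ * (w : ↥(Subgroup.centralizer ({z} : Set G))) by group,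
        (hacn g).resolve_left hg, mul_assoc]
      have hww : (w : ↥(Subgroup.centralizer ({z} : Set G))) * w = 1 := Subtype.ext (by
        show ((w : ↥(Subgroup.centralizer ({z} : Set G))) : G) * (w : ↥(Subgroup.centralizer ({z} : Set G))) = 1
        rw [hwG]; exact hzz)
      rw [hww, mul_one]
    have hTmem : ∀ g : ↥(K.map (Subgroup.centralizer ({z} : Set G)).subtype),
        g ∈ T ↔ (⟨g, (hmem g g.2).1⟩ : (Subgroup.centralizer ({z} : Set G))) * ac * (⟨g, (hmem g g.2).1⟩ : (Subgroup.centralizer ({z} : Set G)))⁻¹ = ac := by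
      intro g
      rw [Subgroup.mem_subgroupOf, Subgroup.mem_centralizer_singleton_iff, mul_inv_eq_iff_eq_mul]
      exact ⟨fun h => Subtype.ext h, fun h => congrArg Subtype.val h⟩
    have hJT : π.ker ≤ T := by
      intro g hg
      obtain ⟨x, hx, hxe⟩ := (hπk g).1 (MonoidHom.mem_ker.1 hg)
      rw [hTmem, mul_inv_eq_iff_eq_mul, show (⟨g, (hmem g g.2).1⟩ : (Subgroup.centralizer ({z} : Set G))) = x from Subtype.ext hxe.symm]
      exact (hacP x hx).eq.symm
    have hTn : T.Normal := ⟨fun t ht g => by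
      rw [hTmem] at ht ⊢
      set g' : (Subgroup.centralizer ({z} : Set G)) := ⟨g, (hmem g g.2).1⟩
      set t' : (Subgroup.centralizer ({z} : Set G)) := ⟨t, (hmem t t.2).1⟩
      show g' * t' * g'⁻¹ * ac * (g' * t' * g'⁻¹)⁻¹ = ac
      have hcase : t' * (g'⁻¹ * ac * g') * t'⁻¹ = g'⁻¹ * ac * g' := by
        rcases hacn g'⁻¹ with h | h <;> rw [inv_inv] at h <;> rw [h]
        · exact ht
        · rw [show t' * (ac * (w : ↥(Subgroup.centralizer ({z} : Set G)))) * t'⁻¹ = t' * ac * ((w : ↥(Subgroup.centralizer ({z} : Set G))) * t'⁻¹) by group,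
            (hcomC t'⁻¹).eq, ← mul_assoc, ht]
      rw [show g' * t' * g'⁻¹ * ac * (g' * t' * g'⁻¹)⁻¹ =
        g' * (t' * (g'⁻¹ * ac * g') * t'⁻¹) * g'⁻¹ by group, hcase]
      group⟩
    have := hsimple
    rcases (hTn.map π hπs).eq_bot_or_eq_top with hb | ht
    · exfalso
      obtain ⟨p, q, hpq⟩ : ∃ p q : Cfsg.PSp 2 F, p ≠ 1 ∧ q ≠ 1 ∧ p ≠ q := by
        have h3 : 2 < Nat.card (Cfsg.PSp 2 F) := by rw [hcardP]; norm_num
        have : Fintype (Cfsg.PSp 2 F) := Fintype.ofFinite _
        rw [Nat.card_eq_fintype_card, Fintype.two_lt_card_iff] at h3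
        obtain ⟨r, s, t, hrs, hrt, hst⟩ := h3
        by_cases hr : r = 1
        · exact ⟨s, t, fun h => hrs (hr.trans h.symm), fun h => hrt (hr.trans h.symm), hst⟩
        by_cases hs : s = 1
        · exact ⟨r, t, hr, fun h => hst (hs.trans h.symm), hrt⟩
        · exact ⟨r, s, hr, hs, hrs⟩
      obtain ⟨g, rfl⟩ := hπs p
      obtain ⟨h, rfl⟩ := hπs q
      have hnot : ∀ x, π x ≠ 1 → x ∉ T := fun x hx hm =>
        hx (Subgroup.mem_bot.1 (hb ▸ Subgroup.mem_map_of_mem π hm))
      have hgh : g⁻¹ * h ∈ T := by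
        have hg' : g⁻¹ ∉ T := fun hm => hnot g hpq.1 (inv_mem_iff.1 hm)
        rw [hTmem]
        rw [hTmem] at hg'
        exact hswap _ _ hg' fun hh => hnot h hpq.2.1 ((hTmem h).2 hh)
      have := Subgroup.mem_bot.1 (hb ▸ Subgroup.mem_map_of_mem π hgh)
      rw [map_mul, map_inv, inv_mul_eq_one] at this
      exact hpq.2.2 this
    · intro g hg
      obtain ⟨t, htT, hte⟩ := (ht.symm ▸ Subgroup.mem_top (π ⟨g, hcan g hg⟩) :
        π ⟨g, hcan g hg⟩ ∈ T.map π)
      have hmemT : (⟨g, hcan g hg⟩ : ↥(K.map (Subgroup.centralizer ({z} : Set G)).subtype)) ∈ T := by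
        have hk : t⁻¹ * ⟨g, hcan g hg⟩ ∈ T := hJT (by
          rw [MonoidHom.mem_ker, map_mul, map_inv, hte, inv_mul_cancel])
        simpa using mul_mem htT hk
      have := (hTmem _).1 hmemT
      exact (mul_inv_eq_iff_eq_mul.1 this).symm
  refine ⟨(ac : G), (Cfsg.pCore 2 ↥(Subgroup.centralizer ({z} : Set G))).map (Subgroup.centralizer ({z} : Set G)).subtype, K.map (Subgroup.centralizer ({z} : Set G)).subtype, π, ?_⟩
  refine
    { card_F := hF
      sq := hzz
      ne_one := hz1
      a_sq := congrArg Subtype.val hac2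
      a_out := ⟨fun h => hac.2 (Subtype.ext h), fun h => haz (Subtype.ext (h.trans hwG.symm))⟩
      le_cent := fun g hg => (hmem g hg).1
      J_le := Subgroup.map_mono hPK
      z_mem := ⟨_, hzP, hwG⟩
      a_mem := ⟨ac, hAP hac.1, rfl⟩
      a_H₀ := ?_
      card_J := by
        rw [← hPcard]
        exact (Nat.card_congr ((Cfsg.pCore 2 ↥(Subgroup.centralizer ({z} : Set G))).equivMapOfInjective _ (Subgroup.centralizer ({z} : Set G)).subtype_injective).toEquiv).symm
      conj_mem := fun g hg j hj => ?_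
      conj_H₀ := fun g hg h hh => ?_
      conj_a := fun g hg => ?_
      out_mul := fun g hg h hh hgn hhn => ?_
      sq_mem := fun p hp => ?_
      comm_mem := fun p hp q hq => ?_
      center := fun p hp hc => ?_
      self_cent := fun g hg hc => ?_
      inner := fun g hg hc => ?_
      π_surj := hπs
      π_ker := hπk
      core := rfl
      card_cent := hcardC
      card_H₀ := ?_
      card_psp := hcardP
      simple_psp := hsimple }
  · rintro _ ⟨x, hx, rfl⟩
    exact congrArg Subtype.val (hfix x hx).eq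
  · obtain ⟨x, hx, rfl⟩ := hj
    exact ⟨⟨g, hg⟩ * x * ⟨g, hg⟩⁻¹, hJn.conj_mem x hx _, rfl⟩
  · obtain ⟨x, hx, rfl⟩ := hh
    exact ⟨⟨g, hg⟩ * x * ⟨g, hg⟩⁻¹, hKn.conj_mem x hx _, rfl⟩
  · rcases hacn ⟨g, hg⟩ with h | h
    · exact Or.inl (congrArg Subtype.val h)
    · exact Or.inr ((congrArg Subtype.val h).trans (by simp [hwG]))
  · refine hcan (⟨g, hg⟩ * ⟨h, hh⟩) ((Subgroup.mul_mem_iff_of_index_two hKidx).2 ?_)
    exact ⟨fun h' => absurd (hcan _ h') hgn, fun h' => absurd (hcan _ h') hhn⟩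
  · obtain ⟨x, hx, rfl⟩ := hp
    obtain ⟨u, hu, hxu⟩ := hsplit x hx
    have hxx : x * x = u * u := by
      rcases hxu with rfl | rfl
      · rfl
      · rw [show ac * u * (ac * u) = ac * (u * ac) * u by group,
          ← (hcAE ac hac.1 u hu : Commute ac u).eq,
          show ac * (ac * u) * u = (ac * ac) * (u * u) by group, hac2, one_mul]
    have h2 : ((x : G) * x) = ((⟨u, hu⟩ ^ 2 : E) : ↥(Subgroup.centralizer ({z} : Set G))) := by
      rw [← Subgroup.coe_mul, hxx, pow_two]; rfl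
    show (x : G) * x = 1 ∨ (x : G) * x = z
    rw [h2]
    rcases htwo _ (hsqE ⟨u, hu⟩) with h | h <;> rw [h]
    exacts [Or.inl rfl, Or.inr hwG]
  · obtain ⟨x, hx, rfl⟩ := hp
    obtain ⟨y, hy, rfl⟩ := hq
    have hc : ⁅x, y⁆ ∈ Subgroup.zpowers zc := hJ' ▸ Subgroup.commutator_mem_commutator hx hy
    have hzc2 : orderOf zc = 2 := by rw [← Subgroup.orderOf_coe, hzc, hz]
    rcases H30.zpowers_two_cases hzc2 hc with h | h
    · exact Or.inl (congrArg Subtype.val (commutatorElement_eq_one_iff_mul_comm.1 h))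
    · refine Or.inr ?_
      have h' : x * y = y * x * zc := by
        have h3 : ⁅x, y⁆ * (y * x) = x * y := by rw [commutatorElement_def]; group
        rw [← h3, h, ← hwz, (hcomC (y * x)).eq]
      have := congrArg Subtype.val h'
      simpa [hzc] using this
  · obtain ⟨x, hx, rfl⟩ := hp
    rcases hcases x hx (fun y hy => Subtype.ext (hc _ ⟨y, hy, rfl⟩).eq) with h | h | h | h <;> subst h
    exacts [Or.inl rfl, Or.inr (Or.inl hwG), Or.inr (Or.inr (Or.inl rfl)),
      Or.inr (Or.inr (Or.inr (by simp [hwG])))]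
  · refine ⟨⟨g, hg⟩, hCJ (Subgroup.mem_centralizer_iff.2 fun y hy => ?_), rfl⟩
    exact Subtype.ext (hc _ ⟨y, hy, rfl⟩).eq.symm
  · refine hcan ⟨g, hg⟩ ?_
    show f ⟨g, hg⟩ ∈ I
    have h1 : ∀ p : Cfsg.PSp 2 F, f ⟨g, hg⟩ p = p := by
      intro p
      obtain ⟨c, hc'⟩ := hf (MulAut.conj p)
      have hck : c ∈ K := by
        show f c ∈ I
        rw [hc']; exact ⟨p, rfl⟩
      obtain ⟨x, hx, hxe⟩ := hc c (hcan c hck)
      have hx1 : ⟨g, hg⟩ * c * (⟨g, hg⟩ : (Subgroup.centralizer ({z} : Set G)))⁻¹ * c⁻¹ = x := Subtype.ext hxe.symm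
      have h2 := (hfk _).2 hx
      rw [← hx1, map_mul, map_mul, map_mul, map_inv, map_inv, hc', mul_inv_eq_one,
        mul_inv_eq_iff_eq_mul] at h2
      refine hinj (MulEquiv.ext fun q => ?_)
      have h3 := DFunLike.congr_fun h2 ((f ⟨g, hg⟩).symm q)
      simp only [MulAut.mul_apply, MulAut.conj_apply, map_mul, map_inv,
        MulEquiv.apply_symm_apply] at h3
      simpa [MulAut.conj_apply] using h3
    rw [show f ⟨g, hg⟩ = 1 from MulEquiv.ext h1]
    exact one_mem _
  · rw [← Nat.card_congr (K.equivMapOfInjective _ (Subgroup.centralizer ({z} : Set G)).subtype_injective).toEquiv]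
    have := Subgroup.card_mul_index K
    rw [hKidx, hcardC] at this
    omega

end H20.Fi22C
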