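import Cfsg.Agent.H38.Fi22C.NonConj
import Cfsg.Agent.H55.S3232.Centre

/-!
With `z` isolated in `C(a)` and weakly closed in the core, the only conjugates of `a` in the core
are `a` and `az`.
-/

set_option autoImplicit false

namespace H20.Fi22C

open H39.Fi22C H38.Fi22C

variable {G : Type*} [Group G] {F : Type*} [Field F] [Fintype F] {z a : G} {J H₀ : Subgroup G}
  {π : ↥H₀ →* Cfsg.PSp 2 F}

/-- The centre of the core, as a subgroup. -/
def fourSub (S : Setup3 z a J H₀ π) : Subgroup G where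
  carrier := {p | InW z a p}
  one_mem' := Or.inl rfl
  mul_mem' := fun hp hq => inW_mul S hp hq
  inv_mem' := fun hp => inW_inv S hp

/-- The data give the facts about the core used in the Sylow centre argument. -/
theorem coreZ (S : Setup3 z a J H₀ π) : H55.S3232.CoreZ z (fourSub S) J where
  le_cent := fun _ hj => z_comm S (J_cent S hj)
  Z_le := fun _ hp => inW_mem S hp
  z_mem := Or.inr (Or.inl rfl)
  z_ne_one := S.ne_one
  sq_Z := fun u hu => by
    rcases (hu : InW z a u) with rfl | rfl | rfl | rfl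
    · exact one_mul 1
    · exact S.sq
    · exact S.a_sq
    · exact (setup_az S).a_sq
  comm := S.comm_mem
  sq_cases := S.sq_mem
  cent_Z := fun _ hu _ hj => inW_comm S hu (S.J_le hj)
  center := S.center
  conj_mem := fun g hg j hj => S.conj_mem g (Subgroup.mem_centralizer_singleton_iff.2 hg) j hj
  maximal := fun g hg h => by
    refine trivMod_le S ⟨Subgroup.mem_centralizer_singleton_iff.2 hg, fun j hj => ?_⟩
    have hu : InW z a (j⁻¹ * (g * j * g⁻¹)) := h j hj
    have e : g * j * g⁻¹ * j⁻¹ = j⁻¹ * (g * j * g⁻¹) := by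
      have hc : Commute (j⁻¹ * (g * j * g⁻¹)) j := inW_comm S hu (S.J_le hj)
      calc g * j * g⁻¹ * j⁻¹ = j * (j⁻¹ * (g * j * g⁻¹)) * j⁻¹ := by group
        _ = j⁻¹ * (g * j * g⁻¹) := by rw [← hc.eq, mul_inv_cancel_right]
    rw [e]
    exact hu

/-- A conjugate of `a` in the core is `a` or `az`. -/
theorem conj_a_mem [Finite G] (S : Setup3 z a J H₀ π) (hd : Dead z a)
    (hw : ∀ p ∈ J, IsConj z p → p = z) (g : G) (hg : g * a * g⁻¹ ∈ J) :
    g * a * g⁻¹ = a ∨ g * a * g⁻¹ = a * z := by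
  have : Fact (Nat.Prime 2) := ⟨Nat.prime_two⟩
  set x := g * a * g⁻¹ with hx
  by_cases hxZ : InW z a x
  · rcases hxZ with h | h | h | h
    · exact absurd (conj_eq_one_iff.1 h) S.a_out.1
    · exact absurd (show g⁻¹ * z * g⁻¹⁻¹ = a by rw [← h, hx]; group) (not_conj_za S g⁻¹)
    · exact Or.inl h
    · exact Or.inr h
  have hxx : x * x = 1 := by
    rw [hx, show g * a * g⁻¹ * (g * a * g⁻¹) = g * (a * a) * g⁻¹ by group, S.a_sq]
    group
  -- a Sylow subgroup of `C(a)` centralised by `z`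
  have hza : z ∈ Subgroup.centralizer ({a} : Set G) :=
    Subgroup.mem_centralizer_singleton_iff.2 (za_comm S).eq
  have hP2 : IsPGroup 2 (Subgroup.zpowers (⟨z, hza⟩ : ↥(Subgroup.centralizer ({a} : Set G)))) :=
    IsPGroup.of_card (n := 1) (by
      rw [Nat.card_zpowers, pow_one]
      exact orderOf_eq_prime (by rw [pow_two]; exact Subtype.ext S.sq)
        fun e => S.ne_one (congrArg Subtype.val e))
  obtain ⟨T, hT⟩ := hP2.exists_le_sylow
  have hzT : ∀ t ∈ (T : Subgroup ↥(Subgroup.centralizer ({a} : Set G))), Commute z (t : G) := by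
    intro t ht
    set P := (T : Subgroup ↥(Subgroup.centralizer ({a} : Set G))).map
      (Subgroup.centralizer ({a} : Set G)).subtype with hP
    have hzP : z ∈ P := ⟨⟨z, hza⟩, hT (Subgroup.mem_zpowers _), rfl⟩
    refine hd.2 P (T.2.map _) ?_ (fun p hp => mul_mem (mul_mem hzP hp) (inv_mem hzP)) t ⟨t, ht, rfl⟩
    rintro _ ⟨s, _, rfl⟩
    exact Subgroup.mem_centralizer_singleton_iff.1 s.2
  -- `z` moved along commutes with the centraliser of `x` in the core
  obtain ⟨k, hk, hR⟩ := H55.S3232.exists_conj_into (x := x) (u := a) (k := g) hx.symm T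
    (R := J ⊓ Subgroup.centralizer ({x} : Set G)) ((isPGroup_J S).to_le inf_le_left)
    (fun r hr => Subgroup.mem_centralizer_singleton_iff.1 hr.2)
  have hc : ∀ e ∈ J, Commute e x → Commute (k * z * k⁻¹) e := by
    intro e he hex
    obtain ⟨t, ht, hte⟩ := hR e ⟨he, Subgroup.mem_centralizer_singleton_iff.2 hex.eq⟩
    have h1 : Commute z (k⁻¹ * e * k) := hte ▸ hzT t ht
    have h2 := h1.map (MulAut.conj k).toMonoidHom
    simpa [mul_assoc] using h2
  have hkz : k * z * k⁻¹ = z := by
    rcases (coreZ S).mem_of_commute hg hxZ hxx hc with h | h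
    · exact hw _ (inW_mem S h) (isConj_iff.2 ⟨k, rfl⟩)
    · have hm : k * z * k⁻¹ ∈ J := by
        have := J.mul_mem (inW_mem S h) (J.inv_mem hg)
        rwa [mul_inv_cancel_right] at this
      exact hw _ hm (isConj_iff.2 ⟨k, rfl⟩)
  have hkC : k ∈ Subgroup.centralizer ({z} : Set G) :=
    Subgroup.mem_centralizer_singleton_iff.2 (mul_inv_eq_iff_eq_mul.1 hkz)
  exact hk ▸ S.conj_a k hkC

end H20.Fi22C
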