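import Cfsg.Agent.H16.Fi22C.Facts
import Cfsg.Agent.H2.U6E.Ext

/-!
The natural module: two different linear involutions with the same totally singular fixed line,
whose product has that fixed line as well, are separated by an element of order three of the
centraliser of the first.
-/

set_option autoImplicit false
set_option maxRecDepth 100000

namespace H20.Fi22C

open H38.U6C H50.U6C H2.U6E H33.U6E H33.U6E.Cert H16.Fi22C

/-- The second vector of the base line. -/
abbrev w0 : V := 5

/-- The sixteen vectors of the base line. -/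
def ln (i : Fin 16) : V := vadd (smul4 (i.val % 4) v0) (smul4 (i.val / 4) w0)

/-- The map fixing the base line with the two given translations. -/
def par (i j : Fin 16) (u : V) : V :=
  vadd (vadd u (smul4 (herm v0 u) (ln i))) (smul4 (herm w0 u) (ln j))

theorem perp_line : ∀ u : V, herm v0 u = 0 → herm w0 u = 0 → ∃ i, ln i = u := by decide +kernel

theorem line_facts : (∀ u : V, herm v0 (vadd (vadd u (smul4 (herm v0 u) 16)) (smul4 (herm w0 u) 1)) = 0 ∧
    herm w0 (vadd (vadd u (smul4 (herm v0 u) 16)) (smul4 (herm w0 u) 1)) = 0) ∧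
    Function.Injective ln ∧ qv w0 = false ∧ herm v0 w0 = 0 := by
  refine ⟨?_, ?_, ?_, ?_⟩ <;> decide +kernel

/-- The translations giving isometries. -/
def good (i j : Fin 16) : Bool :=
  herm (vadd 16 (ln i)) (vadd 16 (ln i)) == herm 16 16 &&
    herm (vadd 1 (ln j)) (vadd 1 (ln j)) == herm 1 1 &&
      herm (vadd 16 (ln i)) (vadd 1 (ln j)) == herm 16 1

/-- No fixed vector outside the line. -/
def full (m n : V) : Bool :=
  decide (∀ c d : Fin 4, vadd (smul4 c.val m) (smul4 d.val n) = 0 → c = 0 ∧ d = 0)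

/-- Words of order three stabilising the line. -/
def seps : List (List (Fin 45)) :=
  [[1, 3, 22, 27], [1, 4, 17, 31], [1, 5, 21, 32], [1, 17, 25, 30], [1, 21, 25, 34],
    [1, 22, 25, 26], [3, 4, 12, 13], [3, 10, 27, 33], [3, 11, 38, 41], [4, 11, 28, 34]]

/-- The word commutes with the first map and its fourth power does not commute with the second. -/
def sep (i j k l : Fin 16) (ws : List (Fin 45)) : Bool :=
  decide (∀ b : Fin 8, run ws (par i j (bas b)) = par i j (run ws (bas b))) &&
    decide (∃ b : Fin 8, run ws (run ws (run ws (run ws (par k l (bas b))))) ≠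
      par k l (run ws (run ws (run ws (run ws (bas b))))))

theorem sep_ok : ∀ i j : Fin 16, good i j = true → full (ln i) (ln j) = true →
    ∀ k l : Fin 16, good k l = true → full (ln k) (ln l) = true →
      full (vadd (ln i) (ln k)) (vadd (ln j) (ln l)) = true →
        seps.any (sep i j k l) = true := by
  decide +kernel

/-- Words fixing `v0` which carry the three lines through it to the base line. -/
def toLine : List (List (Fin 45)) := [[], [25], [35]]

theorem to_line : ∀ w : V, qv w = false → herm v0 w = 0 → (∀ c : Fin 4, w ≠ smul4 c.val v0) →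
    ∃ ws ∈ toLine, run ws v0 = v0 ∧ ∃ i : Fin 16, 4 ≤ i.val ∧ ln i = run ws w := by
  decide +kernel

theorem herm_zero_right (a : V) : herm a 0 = 0 := (show ∀ a : V, herm a 0 = 0 by decide +kernel) a

/-- A closed set with `v0` and another vector of the base line contains the whole of it. -/
theorem ln_mem {S : Finset V} (hS : Closed S) (h0 : v0 ∈ S) {i : Fin 16} (hi : 4 ≤ i.val)
    (h : ln i ∈ S) (j : Fin 16) : ln j ∈ S := by
  have key : ∀ i : Fin 16, 4 ≤ i.val → ∀ j : Fin 16,
      ∃ c d : Fin 4, ln j = vadd (smul4 c.val v0) (smul4 d.val (ln i)) := by decide +kernel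
  obtain ⟨c, d, e⟩ := key i hi j
  rw [e]
  exact hS.2.1 _ (hS.2.2 c _ h0) _ (hS.2.2 d _ h)

theorem isLin_uGroup {g : Equiv.Perm V} (hg : g ∈ uGroup) : IsLin g :=
  isLin_of_isom (uGroup_le_isom hg)

theorem isLin_one : IsLin (1 : Equiv.Perm V) :=
  ⟨fun _ _ => rfl, fun _ _ => rfl, fun _ _ => rfl⟩

/-- A linear involution with sixteen fixed vectors fixes the orthogonal of each of them. -/
theorem fix_line {f : Equiv.Perm V} (hf : IsLin f) (f2 : f * f = 1)
    (f16 : (Finset.univ.filter fun v => f v = v).card = 16) {u w : V} (hu : f u = u)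
    (hw : f w = w) : herm u w = 0 := by
  classical
  have hff : ∀ v, f (f v) = v := fun v => DFunLike.congr_fun f2 v
  set F := Finset.univ.filter fun v : V => f v = v with hF
  let d : V → V := fun v => vadd v (f v)
  have hmaps : ∀ v ∈ (Finset.univ : Finset V), d v ∈ F := fun v _ => by
    rw [hF, Finset.mem_filter]
    exact ⟨Finset.mem_univ _, by simp only [d, hf.add, hff, H50.U6C.vadd_comm]⟩
  have hfib : ∀ b ∈ (Finset.univ : Finset V).image d,
      ((Finset.univ : Finset V).filter fun v => d v = b).card ≤ F.card := by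
    intro b hb
    obtain ⟨v₀, -, hv₀⟩ := Finset.mem_image.1 hb
    refine Finset.card_le_card_of_injOn (fun v => vadd v v₀) ?_ ?_
    · intro v hv
      simp only [Finset.mem_coe, Finset.mem_filter, Finset.mem_univ, true_and, d, hF] at hv hv₀ ⊢
      have h1 : vadd (vadd v v₀) (f (vadd v v₀)) = 0 := by
        rw [hf.add, vadd_vadd_vadd, hv, hv₀, vadd_self]
      exact (vadd_eq_zero h1).symm
    · intro v _ v' _ e
      have := congrArg (fun b => vadd b v₀) e
      simpa [H50.U6C.vadd_assoc, H50.U6C.vadd_self, vadd_zero'] using this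
  have himg : (Finset.univ : Finset V).image d = F := by
    refine Finset.eq_of_subset_of_card_le (fun b hb => ?_) ?_
    · obtain ⟨v, hv, rfl⟩ := Finset.mem_image.1 hb
      exact hmaps v hv
    · have h1 := Finset.card_le_mul_card_image _ _ hfib
      rw [Finset.card_univ, Fintype.card_fin] at h1
      rw [f16] at h1 ⊢
      omega
  obtain ⟨v, -, hv⟩ := Finset.mem_image.1 (himg ▸ (Finset.mem_filter.2 ⟨Finset.mem_univ w, hw⟩) :
    w ∈ (Finset.univ : Finset V).image d)
  rw [← hv]
  show herm u (vadd v (f v)) = 0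
  have h2 := hf.herm_eq u v
  rw [hu] at h2
  rw [herm_vadd_right, h2, Nat.xor_self]

theorem vadd_solve {x a b c d u : V}
    (h : vadd (vadd x (vadd a c)) (vadd b d) = vadd (vadd u a) b) : x = vadd (vadd u c) d := by
  have hl : ∀ p q r : V, vadd p (vadd q r) = vadd q (vadd p r) := fun p q r => by
    rw [← H50.U6C.vadd_assoc, H50.U6C.vadd_comm p q, H50.U6C.vadd_assoc]
  have hc : ∀ p q : V, vadd p (vadd p q) = q := fun p q => by
    rw [← H50.U6C.vadd_assoc, vadd_self, H50.U6C.vadd_comm, vadd_zero']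
  have e := congrArg (fun y => vadd y (vadd (vadd b d) (vadd a c))) h
  simp only [H50.U6C.vadd_comm, hl, hc, vadd_self, vadd_zero'] at e ⊢
  exact e

/-- A linear map fixing the base line exactly, as a pair of translations. -/
theorem par_of_fix {f : Equiv.Perm V} (hf : IsLin f) (hfix : ∀ i, f (ln i) = ln i) :
    ∃ i j, good i j = true ∧ ∀ u, f u = par i j u := by
  have hperp : ∀ u : V, ∀ l : Fin 16, herm (ln l) (vadd u (f u)) = 0 := by
    intro u l
    have := hf.herm_eq (ln l) u
    rw [hfix] at this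
    rw [herm_vadd_right, this, Nat.xor_self]
  have hv : ∀ u, herm v0 (vadd u (f u)) = 0 ∧ herm w0 (vadd u (f u)) = 0 := fun u =>
    ⟨(show ln 1 = v0 by decide +kernel) ▸ hperp u 1, (show ln 4 = w0 by decide +kernel) ▸ hperp u 4⟩
  obtain ⟨i, hi⟩ := perp_line _ (hv 16).1 (hv 16).2
  obtain ⟨j, hj⟩ := perp_line _ (hv 1).1 (hv 1).2
  have e16 : f 16 = vadd 16 (ln i) := by
    rw [hi, ← H50.U6C.vadd_assoc, vadd_self, H50.U6C.vadd_comm, vadd_zero']
  have e1 : f 1 = vadd 1 (ln j) := by
    rw [hj, ← H50.U6C.vadd_assoc, vadd_self, H50.U6C.vadd_comm, vadd_zero']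
  refine ⟨i, j, ?_, fun u => ?_⟩
  · simp only [good, Bool.and_eq_true, beq_iff_eq]
    refine ⟨⟨?_, ?_⟩, ?_⟩
    · rw [← e16, hf.herm_eq]
    · rw [← e1, hf.herm_eq]
    · rw [← e16, ← e1, hf.herm_eq]
  · obtain ⟨l, hl⟩ := perp_line _ (line_facts.1 u).1 (line_facts.1 u).2
    have h := hfix l
    rw [hl, hf.add, hf.add, show f (smul4 (herm v0 u) 16) = smul4 (herm v0 u) (f 16) from
        hf.smul ⟨_, herm_lt _ _⟩ 16,
      show f (smul4 (herm w0 u) 1) = smul4 (herm w0 u) (f 1) from hf.smul ⟨_, herm_lt _ _⟩ 1,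
      e16, e1, smul4_vadd (herm_lt _ _), smul4_vadd (herm_lt _ _)] at h
    exact vadd_solve h

/-- Without further fixed vectors the translations are independent. -/
theorem full_of_fix {i j : Fin 16} (hline : ∀ u, par i j u = u → ∃ l, ln l = u) :
    full (ln i) (ln j) = true := by
  simp only [full, decide_eq_true_eq]
  intro c d e
  have hu : ∀ c d : Fin 4, herm v0 (vadd (smul4 c.val 16) (smul4 d.val 1)) = c.val ∧
      herm w0 (vadd (smul4 c.val 16) (smul4 d.val 1)) = d.val ∧
      ((∃ l, ln l = vadd (smul4 c.val 16) (smul4 d.val 1)) → c = 0 ∧ d = 0) := by decide +kernel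
  refine (hu c d).2.2 (hline _ ?_)
  rw [par, (hu c d).1, (hu c d).2.1, H50.U6C.vadd_assoc, e, vadd_zero']

theorem par_mul (i j k l : Fin 16) (u : V) : par i j (par k l u) =
    vadd (vadd u (smul4 (herm v0 u) (vadd (ln i) (ln k))))
      (smul4 (herm w0 u) (vadd (ln j) (ln l))) := by
  have hperp : ∀ m : Fin 16, herm v0 (ln m) = 0 ∧ herm w0 (ln m) = 0 := by decide +kernel
  have hsame : herm v0 (par k l u) = herm v0 u ∧ herm w0 (par k l u) = herm w0 u := by
    constructor <;>
      simp [par, herm_vadd_right, herm_smul_right (herm_lt _ _), (hperp k).1, (hperp k).2,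
        (hperp l).1, (hperp l).2,
        show ∀ x < 4, fmul x 0 = 0 from by decide, herm_lt]
  rw [par, hsame.1, hsame.2, par, smul4_vadd (herm_lt _ _), smul4_vadd (herm_lt _ _)]
  simp only [H50.U6C.vadd_assoc]
  rw [← H50.U6C.vadd_assoc (smul4 (herm w0 u) (ln l)), H50.U6C.vadd_comm (smul4 (herm w0 u) (ln l))]
  simp only [H50.U6C.vadd_assoc, H50.U6C.vadd_comm (smul4 (herm w0 u) (ln j)) (smul4 (herm w0 u) (ln l))]
  rw [← H50.U6C.vadd_assoc (smul4 (herm v0 u) (ln k)), H50.U6C.vadd_comm (smul4 (herm v0 u) (ln k))]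
  simp only [H50.U6C.vadd_assoc]

/-- The statement on the base line. -/
theorem line_kill_base {f h : Equiv.Perm V} (hf : IsLin f) (hh : IsLin h)
    (hF : ∀ u, f u = u ↔ ∃ l, ln l = u) (hH : ∀ u, h u = u ↔ ∃ l, ln l = u)
    (hFH : ∀ u, f (h u) = u → ∃ l, ln l = u) :
    ∃ g ∈ uGroup, g * f = f * g ∧ (g * g * (g * g)) * h ≠ h * (g * g * (g * g)) := by
  obtain ⟨i, j, gij, eij⟩ := par_of_fix hf fun l => (hF _).2 ⟨l, rfl⟩
  obtain ⟨k, l, gkl, ekl⟩ := par_of_fix hh fun m => (hH _).2 ⟨m, rfl⟩
  have full1 := full_of_fix (i := i) (j := j) fun u hu => (hF u).1 ((eij u).trans hu)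
  have full2 := full_of_fix (i := k) (j := l) fun u hu => (hH u).1 ((ekl u).trans hu)
  have full3 : full (vadd (ln i) (ln k)) (vadd (ln j) (ln l)) = true := by
    have hln : ∀ i k : Fin 16, ∃ m, ln m = vadd (ln i) (ln k) := by decide +kernel
    obtain ⟨m, hm⟩ := hln i k
    obtain ⟨n, hn⟩ := hln j l
    rw [← hm, ← hn]
    refine full_of_fix fun u hu => hFH u ?_
    rw [ekl, eij, par_mul, ← hm, ← hn]
    exact hu
  obtain ⟨ws, -, hsep⟩ := List.any_eq_true.1 (sep_ok i j gij full1 k l gkl full2 full3)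
  simp only [sep, Bool.and_eq_true, decide_eq_true_eq] at hsep
  obtain ⟨hcomm, b, hb⟩ := hsep
  obtain ⟨g, hg, hgr⟩ := exists_run ws
  have hgl := isLin_uGroup hg
  refine ⟨g, hg, Equiv.ext fun u => ?_, fun e => hb ?_⟩
  · show g (f u) = f (g u)
    refine closed_eq_univ (fun u => g (f u) = f (g u)) ?_ ?_ ?_ u
    · rw [H39.U6E.lin_zero hf, H39.U6E.lin_zero hgl, H39.U6E.lin_zero hf]
    · intro a b ha hb
      rw [hf.add, hgl.add, hgl.add, hf.add, ha, hb]
    · intro b
      rw [eij, hgr, hgr, eij]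
      exact hcomm b
  · have e' := DFunLike.congr_fun e (bas b)
    simp only [Equiv.Perm.mul_apply, hgr, ekl] at e'
    exact e'

/-- A linear involution with sixteen fixed vectors is carried to one fixing the base line. -/
theorem exists_to_line {f : Equiv.Perm V} (hf : IsLin f) (f2 : f * f = 1)
    (f16 : (Finset.univ.filter fun v => f v = v).card = 16) :
    ∃ q ∈ uGroup, ∀ u, f u = u ↔ ∃ l, ln l = q u := by
  classical
  have hlz := fun {u w : V} (hu : f u = u) (hw : f w = w) => fix_line hf f2 f16 hu hw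
  set F := Finset.univ.filter fun v : V => f v = v with hF
  have hFc : Closed F := closed_fix hf
  have hmem : ∀ {u}, u ∈ F ↔ f u = u := fun {u} => by simp [hF]
  obtain ⟨v, hv, hv0⟩ := Finset.exists_mem_ne (by rw [f16]; norm_num : 1 < F.card) 0
  have hqv : ∀ {u}, f u = u → qv u = false := fun {u} hu => by simp [qv, hlz hu hu]
  obtain ⟨q, hq, hqv0⟩ := exists_to_v0 (hqv (hmem.1 hv)) hv0
  have hql := isLin_uGroup hq
  -- a second vector, moved to the base line
  set F' := F.image q with hF'
  have hF'c : Closed F' := by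
    refine ⟨Finset.mem_image.2 ⟨0, hFc.1, H39.U6E.lin_zero hql⟩, ?_, ?_⟩
    · intro a ha b hb
      obtain ⟨a', ha', rfl⟩ := Finset.mem_image.1 ha
      obtain ⟨b', hb', rfl⟩ := Finset.mem_image.1 hb
      exact Finset.mem_image.2 ⟨vadd a' b', hFc.2.1 _ ha' _ hb', hql.add _ _⟩
    · intro c a ha
      obtain ⟨a', ha', rfl⟩ := Finset.mem_image.1 ha
      exact Finset.mem_image.2 ⟨smul4 c a', hFc.2.2 c _ ha', hql.smul c _⟩
  have h16 : F'.card = 16 := by rw [hF', Finset.card_image_of_injective _ q.injective, f16]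
  obtain ⟨w, hw, hwn⟩ : ∃ w ∈ F', ∀ c : Fin 4, w ≠ smul4 c.val v0 := by
    by_contra! hcon
    have hsub : F' ⊆ (Finset.univ : Finset (Fin 4)).image fun c => smul4 c.val v0 := fun w hw => by
      obtain ⟨c, hc⟩ := hcon w hw
      exact Finset.mem_image.2 ⟨c, Finset.mem_univ _, hc.symm⟩
    have := (Finset.card_le_card hsub).trans Finset.card_image_le
    simp [h16] at this
  obtain ⟨w', hw', rfl⟩ := Finset.mem_image.1 hw
  have hq0 : qv (q w') = false := by
    simp [qv, hql.herm_eq, hlz (hmem.1 hw') (hmem.1 hw')]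
  have hperp : herm v0 (q w') = 0 := by
    rw [← hqv0, hql.herm_eq]; exact hlz (hmem.1 hv) (hmem.1 hw')
  obtain ⟨ws, -, hfix, i, hi, hli⟩ := to_line _ hq0 hperp hwn
  obtain ⟨r, hr, hrr⟩ := exists_run ws
  have hrl := isLin_uGroup hr
  refine ⟨r * q, mul_mem hr hq, ?_⟩
  set F'' := F'.image r with hF''
  have hF''c : Closed F'' := by
    refine ⟨Finset.mem_image.2 ⟨0, hF'c.1, H39.U6E.lin_zero hrl⟩, ?_, ?_⟩
    · intro a ha b hb
      obtain ⟨a', ha', rfl⟩ := Finset.mem_image.1 ha
      obtain ⟨b', hb', rfl⟩ := Finset.mem_image.1 hb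
      exact Finset.mem_image.2 ⟨vadd a' b', hF'c.2.1 _ ha' _ hb', hrl.add _ _⟩
    · intro c a ha
      obtain ⟨a', ha', rfl⟩ := Finset.mem_image.1 ha
      exact Finset.mem_image.2 ⟨smul4 c a', hF'c.2.2 c _ ha', hrl.smul c _⟩
  have hall : F'' = (Finset.univ : Finset (Fin 16)).image ln := by
    refine (Finset.eq_of_subset_of_card_le (fun x hx => ?_) ?_).symm
    · obtain ⟨m, -, rfl⟩ := Finset.mem_image.1 hx
      refine ln_mem hF''c ?_ hi ?_ m
      · exact Finset.mem_image.2 ⟨v0, Finset.mem_image.2 ⟨v, hv, hqv0⟩, (hrr v0).trans hfix⟩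
      · exact Finset.mem_image.2 ⟨q w', hw, (hrr _).trans hli.symm⟩
    · rw [Finset.card_image_of_injective _ line_facts.2.1, hF'',
        Finset.card_image_of_injective _ r.injective, h16]
      simp
  intro u
  rw [← hmem, show (∃ l, ln l = (r * q) u) ↔ (r * q) u ∈ F'' by simp [hall]]
  simp [hF'', hF']

/-- Two linear involutions with the same fixed line, as has their product: some element of the
unitary group centralises the first and its fourth power moves the second. -/
theorem line_kill {f h : Equiv.Perm V} (hf : H2.U6E.IsLin f) (hh : IsLin h) (f2 : f * f = 1)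
    (_h2 : h * h = 1) (f16 : (Finset.univ.filter fun v => f v = v).card = 16)
    (h16 : (Finset.univ.filter fun v => h v = v).card = 16)
    (fh16 : (Finset.univ.filter fun v => (f * h) v = v).card = 16)
    (hsame : ∀ v, f v = v → h v = v) :
    ∃ g ∈ H38.U6C.uGroup, g * f = f * g ∧
      (g * g * (g * g)) * h ≠ h * (g * g * (g * g)) := by
  classical
  obtain ⟨q, hq, hqF⟩ := exists_to_line hf f2 f16
  have hiff : ∀ v, h v = v ↔ f v = v := fun v => by
    have hsub : (Finset.univ.filter fun v => f v = v) ⊆ Finset.univ.filter fun v => h v = v :=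
      fun v hv => by
        simp only [Finset.mem_filter, Finset.mem_univ, true_and] at hv ⊢; exact hsame v hv
    have e := Finset.eq_of_subset_of_card_le hsub (by omega)
    have := congrArg (fun s : Finset V => v ∈ s) e
    simp only [Finset.mem_filter, Finset.mem_univ, true_and, eq_iff_iff] at this
    exact this.symm
  have hfh : ∀ v, f (h v) = v → f v = v := by
    intro v hv
    have hsub : (Finset.univ.filter fun v => f v = v) ⊆
        Finset.univ.filter fun v => (f * h) v = v := fun v hv => by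
      refine Finset.mem_filter.2 ⟨Finset.mem_univ _, ?_⟩
      show f (h v) = v
      rw [hsame v (Finset.mem_filter.1 hv).2, (Finset.mem_filter.1 hv).2]
    have e := Finset.eq_of_subset_of_card_le hsub (by omega)
    have hm : v ∈ Finset.univ.filter fun v => (f * h) v = v :=
      Finset.mem_filter.2 ⟨Finset.mem_univ _, hv⟩
    rw [← e] at hm
    exact (Finset.mem_filter.1 hm).2
  have hql := isLin_uGroup hq
  have hqi := isLin_uGroup (inv_mem hq)
  have hval : ∀ (p : Equiv.Perm V) u, (q * p * q⁻¹) u = q (p (q⁻¹ u)) := fun _ _ => rfl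
  have hconj : ∀ {p : Equiv.Perm V}, IsLin p → IsLin (q * p * q⁻¹) := fun {p} hp =>
    ⟨fun a b => by rw [hval, hval, hval, hqi.add, hp.add, hql.add],
      fun c a => by rw [hval, hval, hqi.smul, hp.smul, hql.smul],
      fun a b => by rw [hval, hval, hql.herm_eq, hp.herm_eq, hqi.herm_eq]⟩
  have hback : ∀ u, q (q⁻¹ u) = u := fun u => by simp
  have hline : ∀ u, f (q⁻¹ u) = q⁻¹ u ↔ ∃ l, ln l = u := fun u => by rw [hqF, hback]
  have heq : ∀ (p : Equiv.Perm V) u, (q * p * q⁻¹) u = u ↔ p (q⁻¹ u) = q⁻¹ u := fun p u => by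
    rw [hval]
    constructor
    · intro e
      have := congrArg (⇑q⁻¹) e
      simpa using this
    · intro e
      rw [e, hback]
  obtain ⟨g, hg, h1, h2⟩ := line_kill_base (hconj hf) (hconj hh)
    (fun u => (heq f u).trans (hline u))
    (fun u => (heq h u).trans ((hiff _).trans (hline u))) fun u hu => by
      refine (hline u).1 (hfh _ ?_)
      have : (q * (f * h) * q⁻¹) u = u := by
        rw [show q * (f * h) * q⁻¹ = q * f * q⁻¹ * (q * h * q⁻¹) by group]
        exact hu
      exact (heq (f * h) u).1 this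
  refine ⟨q⁻¹ * g * q, mul_mem (mul_mem (inv_mem hq) hg) hq, ?_, fun e => h2 ?_⟩
  · calc q⁻¹ * g * q * f = q⁻¹ * (g * (q * f * q⁻¹)) * q := by group
      _ = q⁻¹ * ((q * f * q⁻¹) * g) * q := by rw [h1]
      _ = f * (q⁻¹ * g * q) := by group
  · have e' : q⁻¹ * (g * g * (g * g)) * q * h = h * (q⁻¹ * (g * g * (g * g)) * q) := by
      rw [show q⁻¹ * (g * g * (g * g)) * q =
        q⁻¹ * g * q * (q⁻¹ * g * q) * (q⁻¹ * g * q * (q⁻¹ * g * q)) by group]
      exact e
    calc g * g * (g * g) * (q * h * q⁻¹)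
        = q * (q⁻¹ * (g * g * (g * g)) * q * h) * q⁻¹ := by group
      _ = q * (h * (q⁻¹ * (g * g * (g * g)) * q)) * q⁻¹ := by rw [e']
      _ = q * h * q⁻¹ * (g * g * (g * g)) := by group

end H20.Fi22C
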